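/-
A group with the order of the Mathieu group of degree 12 and the same numbers of elements of each
order is simple.

Main results (namespace `Cfsg.Agent.NseTwelve`):
* `numOrder_cases` : in a simple group of order 95040 all but two of these numbers are divisible by 11;
* `eq_top_or_eq_bot` : a group of order 95040 whose elements of order 11 are self-centralising with
  1728 Sylow subgroups has no proper normal subgroups;
* `isM12_of_numOrder` : the theorem.
-/
import Cfsg.Agent.Lib.Order95040.Eleven
import Cfsg.Agent.Lib.Signalizer.PAction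
import Cfsg.Agent.Lib.SameOrder.Basic
import Cfsg.Prelude.Def_Sporadic

set_option autoImplicit false
set_option linter.style.haveILetI false

namespace Cfsg.Agent.NseTwelve

open Subgroup SmallOrders Cfsg.Agent.SameOrder

variable {G : Type*} [Group G] [Finite G]

/-- Conjugation by an element of order 11 on the elements of a given order. -/
theorem numOrder_modEq {a : G} (ha : orderOf a = 11) (n : ℕ) :
    numOrder G n ≡ Nat.card {g : G // orderOf g = n ∧ a * g = g * a} [MOD 11] := by
  haveI : Fact (Nat.Prime 11) := ⟨by norm_num⟩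
  exact Order95040.card_modEq_commute ha {g : G | orderOf g = n}
    (fun g (hg : orderOf g = n) => show orderOf (a * g * a⁻¹) = n by
      rw [← hg]; exact MulEquiv.orderOf_eq (MulAut.conj a) g)

theorem fac_eleven (h : Nat.card G = 95040) : Nat.card G = 11 ^ 1 * 8640 := by rw [h]; norm_num

/-- The number of elements of order 11. -/
theorem numOrder_eleven (h : Nat.card G = 95040) :
    numOrder G 11 = Nat.card (Sylow 11 G) * 10 := by
  haveI : Fact (Nat.Prime 11) := ⟨by norm_num⟩
  exact card_orderOf_eq_prime fun Q => by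
    rw [card_sylow_subgroup (fac_eleven h) (by norm_num) Q, pow_one]

/-- In a simple group of order 95040. -/
theorem numOrder_cases {M : Type*} [Group M] [Finite M] [IsSimpleGroup M] (h : Nat.card M = 95040)
    (n : ℕ) : numOrder M n = 1 ∨ numOrder M n = 17280 ∨ 11 ∣ numOrder M n := by
  haveI : Fact (Nat.Prime 11) := ⟨by norm_num⟩
  obtain ⟨a, ha⟩ := exists_prime_orderOf_dvd_card' (G := M) 11 (by rw [h]; norm_num)
  rcases eq_or_ne n 1 with rfl | h1
  · exact Or.inl numOrder_one
  rcases eq_or_ne n 11 with rfl | h11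
  · right; left
    rw [numOrder_eleven h, (Order95040.card_sylow_eleven h ha).1]
  right; right
  haveI : IsEmpty {g : M // orderOf g = n ∧ a * g = g * a} := ⟨fun g => by
    have hd := Order95040.orderOf_dvd_eleven h ha g.2.2.symm
    rw [g.2.1] at hd
    rcases (Nat.dvd_prime (by norm_num)).1 hd with e | e
    · exact h1 e
    · exact h11 e⟩
  have := numOrder_modEq ha n
  rw [Nat.card_of_isEmpty (α := {g : M // orderOf g = n ∧ a * g = g * a})] at this
  exact Nat.modEq_zero_iff_dvd.1 this

section Normal

variable {a : G}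

/-- An element of order 11 with centraliser of order 11 normalises no other subgroup of order
prime to 11. -/
theorem eq_bot_of_normalized (h : Nat.card G = 95040) (ha : orderOf a = 11)
    (hC : Nat.card (centralizer ({a} : Set G)) = 11) {K : Subgroup G}
    (hK : ¬ 11 ∣ Nat.card K) (hn : a ∈ normalizer (K : Set G)) : K = ⊥ := by
  haveI : Fact (Nat.Prime 11) := ⟨by norm_num⟩
  by_contra hne
  obtain ⟨q, hq, hqK⟩ := Nat.exists_prime_and_dvd (fun e => hne (card_eq_one.1 e))
  haveI := Fact.mk hq
  have hA : IsPGroup 11 (zpowers a) :=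
    IsPGroup.of_card (n := 1) (by rw [Nat.card_zpowers, ha, pow_one])
  obtain ⟨S, hS, hAS⟩ :=
    Signalizer.exists_invariant_sylow (q := q) hA K hK (zpowers_le.2 hn)
  obtain ⟨k, hk⟩ := IsPGroup.iff_card.1 hS.2.1
  have hk0 : k ≠ 0 := by
    rintro rfl
    refine hS.2.2 ?_
    have := relIndex_mul_index (H := (⊥ : Subgroup G)) (K := K) bot_le
    rw [show S = ⊥ from card_eq_one.1 (by rw [hk, pow_zero]), relIndex_bot_left]
    exact hqK
  -- only the identity is fixed
  have hfix := Order95040.card_modEq_commute ha (S : Set G) fun g hg =>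
    (mem_normalizer_iff.1 (zpowers_le.1 hAS) g).1 hg
  haveI : Subsingleton {g : G // g ∈ (S : Set G) ∧ a * g = g * a} := ⟨fun x y => Subtype.ext (by
    have key : ∀ g : G, g ∈ S → a * g = g * a → g = 1 := fun g hg hc => by
      have h11 := orderOf_dvd_of_centralizer hC hc.symm
      have hgS : orderOf g ∣ Nat.card S := by
        rw [← Subgroup.orderOf_mk g hg]
        exact orderOf_dvd_natCard _
      refine orderOf_eq_one_iff.1 (Nat.eq_one_of_dvd_coprimes ?_ h11 (hgS.trans (card_dvd_of_le hS.1)))
      exact (Nat.Prime.coprime_iff_not_dvd (by norm_num)).2 hK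
    rw [key _ x.2.1 x.2.2, key _ y.2.1 y.2.2])⟩
  haveI : Nonempty {g : G // g ∈ (S : Set G) ∧ a * g = g * a} :=
    ⟨⟨1, one_mem S, by rw [mul_one, one_mul]⟩⟩
  rw [Nat.card_eq_one_iff_unique.2 (⟨inferInstance, inferInstance⟩ :
    Subsingleton {g : G // g ∈ (S : Set G) ∧ a * g = g * a} ∧ Nonempty {g : G // g ∈ (S : Set G) ∧ a * g = g * a})] at hfix
  have hmod : q ^ k % 11 = 1 := by
    have : Nat.card (S : Set G) = q ^ k := hk
    rw [this] at hfix
    exact hfix
  have hdvd : q ^ k ∣ 95040 := h ▸ hk ▸ card_subgroup_dvd_card S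
  have hq11 : q ≠ 11 := fun e => hK (e ▸ hqK)
  have hqcases : q = 2 ∨ q = 3 ∨ q = 5 := by
    have h1 : q ∣ 2 ^ 6 * 3 ^ 3 * 5 * 11 :=
      ((dvd_pow_self q hk0).trans hdvd).trans (by norm_num)
    rcases (Nat.Prime.dvd_mul hq).1 h1 with h2 | h2
    · rcases (Nat.Prime.dvd_mul hq).1 h2 with h3 | h3
      · rcases (Nat.Prime.dvd_mul hq).1 h3 with h4 | h4
        · exact Or.inl ((Nat.prime_dvd_prime_iff_eq hq Nat.prime_two).1 (hq.dvd_of_dvd_pow h4))
        · exact Or.inr (Or.inl ((Nat.prime_dvd_prime_iff_eq hq Nat.prime_three).1 (hq.dvd_of_dvd_pow h4)))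
      · exact Or.inr (Or.inr ((Nat.prime_dvd_prime_iff_eq hq Nat.prime_five).1 h3))
    · exact absurd ((Nat.prime_dvd_prime_iff_eq hq (by norm_num)).1 h2) hq11
  have hk6 : k ≤ 6 := by
    by_contra h7
    have : q ^ 7 ∣ 95040 := (pow_dvd_pow q (by omega)).trans hdvd
    rcases hqcases with rfl | rfl | rfl <;> norm_num at this
  rcases hqcases with rfl | rfl | rfl <;> interval_cases k <;> revert hmod hdvd hk0 <;> decide +kernel

/-- No proper normal subgroup. -/
theorem eq_bot_or_eq_top (h : Nat.card G = 95040) (ha : orderOf a = 11)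
    (hC : Nat.card (centralizer ({a} : Set G)) = 11) (hS : Nat.card (Sylow 11 G) = 1728)
    (N : Subgroup G) [N.Normal] : N = ⊥ ∨ N = ⊤ := by
  haveI : Fact (Nat.Prime 11) := ⟨by norm_num⟩
  by_cases h11 : 11 ∣ Nat.card N
  swap
  · exact Or.inl (eq_bot_of_normalized h ha hC h11
      ((normalizer_eq_top_iff.2 (inferInstance : N.Normal)).ge (mem_top a)))
  right
  -- every element of order 11 lies in `N`
  have hall : ∀ g : G, orderOf g = 11 → g ∈ N := by
    intro g hg
    obtain ⟨Q⟩ := (inferInstance : Nonempty (Sylow 11 N))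
    obtain ⟨m, hm⟩ := h11
    have hm11 : ¬ 11 ∣ m := fun hd => by
      have h2 : 11 * 11 ∣ 95040 := h ▸ ((mul_dvd_mul_left 11 hd).trans (hm ▸ card_subgroup_dvd_card N))
      norm_num at h2
    have hQ := card_sylow_subgroup (e := 1) (by rw [pow_one]; exact hm) hm11 Q
    obtain ⟨P, hP⟩ := ((Q.isPGroup'.map N.subtype)).exists_le_sylow
    have hPc := card_sylow_subgroup (fac_eleven h) (by norm_num) P
    have hPN : (P : Subgroup G) ≤ N := by
      have e : (Q : Subgroup N).map N.subtype = P := eq_of_le_of_card_ge hP (by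
        rw [hPc, card_map_of_injective N.subtype_injective, hQ])
      rw [← e]
      exact map_subtype_le _
    obtain ⟨P', hP'⟩ := (IsPGroup.of_card (n := 1)
      (show Nat.card (zpowers g) = 11 ^ 1 by rw [Nat.card_zpowers, hg, pow_one])).exists_le_sylow
    obtain ⟨c, rfl⟩ := MulAction.exists_smul_eq G P P'
    obtain ⟨x, hx, hxg⟩ := hP' (mem_zpowers g)
    rw [← hxg]
    exact (inferInstance : N.Normal).conj_mem x (hPN hx) c
  have haN := hall a ha
  have hcnt : Nat.card (Sylow 11 N) = 1728 := by
    obtain ⟨m, hm⟩ := h11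
    have hm11 : ¬ 11 ∣ m := fun hd => by
      have h2 : 11 * 11 ∣ 95040 := h ▸ ((mul_dvd_mul_left 11 hd).trans (hm ▸ card_subgroup_dvd_card N))
      norm_num at h2
    have e1 : Nat.card {g : N // orderOf g = 11} = Nat.card (Sylow 11 N) * 10 :=
      card_orderOf_eq_prime fun Q => by
        rw [card_sylow_subgroup (e := 1) (by rw [pow_one]; exact hm) hm11 Q, pow_one]
    have e2 : Nat.card {g : N // orderOf g = 11} = numOrder G 11 := Nat.card_congr
      { toFun := fun g => ⟨g.1.1, by rw [orderOf_coe]; exact g.2⟩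
        invFun := fun g => ⟨⟨g.1, hall g.1 g.2⟩, by rw [Subgroup.orderOf_mk]; exact g.2⟩
        left_inv := fun _ => rfl
        right_inv := fun _ => rfl }
    rw [numOrder_eleven h, hS, e1] at e2
    omega
  obtain ⟨P, hP⟩ := (IsPGroup.of_card (n := 1)
    (show Nat.card (zpowers (⟨a, haN⟩ : N)) = 11 ^ 1 by
      rw [Nat.card_zpowers, Subgroup.orderOf_mk, ha, pow_one])).exists_le_sylow
  obtain ⟨m, hm⟩ := h11
  have hm11 : ¬ 11 ∣ m := fun hd => by
    have h2 : 11 * 11 ∣ 95040 := h ▸ ((mul_dvd_mul_left 11 hd).trans (hm ▸ card_subgroup_dvd_card N))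
    norm_num at h2
  have hP11 := card_sylow_subgroup (e := 1) (by rw [pow_one]; exact hm) hm11 P
  have hn1 := card_normalizer_mul_card_sylow P
  rw [hcnt, hm] at hn1
  have hmd : 11 * m ∣ 95040 := h ▸ hm ▸ card_subgroup_dvd_card N
  obtain ⟨j, hj⟩ : 11 ∣ Nat.card (normalizer ((P : Subgroup N) : Set N)) := by
    have := card_dvd_of_le (le_normalizer (H := (P : Subgroup N)))
    rwa [hP11, pow_one] at this
  rw [hj] at hn1
  have hjm : 1728 * j = m := by linarith
  have hj5 : j ∣ 5 := by
    obtain ⟨r, hr⟩ := hmd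
    exact ⟨r, by subst hjm; linarith⟩
  rcases (Nat.dvd_prime Nat.prime_five).1 hj5 with rfl | rfl
  · -- a normal complement would be normalised by `a`
    exfalso
    have hle : normalizer ((P : Subgroup N) : Set N) ≤ centralizer ((P : Subgroup N) : Set N) := by
      have e : normalizer ((P : Subgroup N) : Set N) = (P : Subgroup N) :=
        (eq_of_le_of_card_ge le_normalizer (by rw [hj, hP11, pow_one])).symm
      rw [e]
      haveI : IsMulCommutative ↥(P : Subgroup N) := by
        haveI := isCyclic_of_prime_card (p := 11) (α := ↥(P : Subgroup N)) (by rw [hP11, pow_one])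
        exact IsCyclic.isMulCommutative
      exact le_centralizer _
    have hc := MonoidHom.ker_transferSylow_isComplement' P hle
    set K := (MonoidHom.transferSylow P hle).ker
    have hKc := hc.card_mul_card
    rw [hP11, hm] at hKc
    have hK : Nat.card K = 1728 := by omega
    have h0 := eq_bot_of_normalized h ha hC (K := K.map N.subtype)
      (by rw [card_map_of_injective N.subtype_injective, hK]; norm_num)
      (by
        have := le_normalizer_map N.subtype
          (mem_map_of_mem N.subtype ((normalizer_eq_top_iff.2 (inferInstance : K.Normal)).ge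
            (mem_top (⟨a, haN⟩ : N))))
        exact this)
    have h1 := congrArg (fun H : Subgroup G => Nat.card H) h0
    simp only [card_map_of_injective N.subtype_injective, hK, card_bot] at h1
    omega
  · exact eq_top_of_card_eq N (by rw [hm, h]; omega)

end Normal

/-- The numbers of elements of each order of a simple group of order 95040 force simplicity. -/
theorem isM12_of_numOrder {M : Type*} [Group M] [Finite M] [IsSimpleGroup M]
    (hM : Nat.card M = 95040) (hcard : Nat.card G = 95040)
    (hnse : {c : ℕ | 0 < c ∧ ∃ n : ℕ, c = numOrder G n} = {c : ℕ | 0 < c ∧ ∃ n : ℕ, c = numOrder M n}) :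
    Cfsg.IsM12 G := by
  haveI : Fact (Nat.Prime 11) := ⟨by norm_num⟩
  have mem : ∀ n, numOrder G n ≠ 0 →
      numOrder G n = 1 ∨ numOrder G n = 17280 ∨ 11 ∣ numOrder G n := by
    intro n hn
    have h1 : numOrder G n ∈ {c : ℕ | 0 < c ∧ ∃ n : ℕ, c = numOrder G n} :=
      ⟨Nat.pos_of_ne_zero hn, n, rfl⟩
    rw [hnse] at h1
    obtain ⟨-, k, hk⟩ := h1
    rw [hk]
    exact numOrder_cases hM k
  obtain ⟨a, ha⟩ := exists_prime_orderOf_dvd_card' (G := G) 11 (by rw [hcard]; norm_num)
  have hmod : Nat.card (Sylow 11 G) % 11 = 1 := card_sylow_modEq_one 11 G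
  have hS : Nat.card (Sylow 11 G) = 1728 := by
    rcases mem 11 (numOrder_prime_ne_zero (by norm_num) (by rw [hcard]; norm_num)) with e | e | e
    · rw [numOrder_eleven hcard] at e; omega
    · rw [numOrder_eleven hcard] at e; omega
    · rw [numOrder_eleven hcard] at e
      have := (Nat.Coprime.dvd_of_dvd_mul_right (by norm_num) e : 11 ∣ Nat.card (Sylow 11 G))
      omega
  obtain ⟨P, hP⟩ := exists_sylow_eq_zpowers
    (fun Q : Sylow 11 G => by rw [card_sylow_subgroup (fac_eleven hcard) (by norm_num) Q, pow_one]) ha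
  have hN := card_normalizer_mul_card_sylow P
  rw [hS, hcard] at hN
  have hN55 : Nat.card (normalizer ((P : Subgroup G) : Set G)) = 55 := by omega
  have hCN : centralizer ({a} : Set G) ≤ normalizer ((P : Subgroup G) : Set G) := by
    rw [hP, ← centralizer_zpowers]
    exact centralizer_le_normalizer _
  have hC : Nat.card (centralizer ({a} : Set G)) = 11 := by
    have h1 := card_dvd_of_le hCN
    rw [hN55] at h1
    have h2 : 11 ∣ Nat.card (centralizer ({a} : Set G)) := by
      have := card_dvd_of_le (zpowers_le_centralizer a)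
      rwa [Nat.card_zpowers, ha] at this
    obtain ⟨j, hj⟩ := h2
    rw [hj] at h1
    have hj5 : j ∣ 5 := (Nat.mul_dvd_mul_iff_left (by norm_num : 0 < 11)).1
      (h1.trans (by norm_num : (55 : ℕ) ∣ 11 * 5))
    rcases (Nat.dvd_prime Nat.prime_five).1 hj5 with rfl | rfl
    · omega
    -- an element of order 55
    exfalso
    haveI : Fact (Nat.Prime 5) := ⟨by norm_num⟩
    set C := centralizer ({a} : Set G)
    obtain ⟨b, hb⟩ := exists_prime_orderOf_dvd_card' (G := C) 5 (by rw [hj]; norm_num)
    have hba : Commute (⟨a, mem_centralizer_self a⟩ : C) b :=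
      Subtype.ext (mem_centralizer_singleton_iff.mp b.2).symm
    have ho : orderOf ((⟨a, mem_centralizer_self a⟩ : C) * b) = 55 := by
      rw [hba.orderOf_mul_eq_mul_orderOf_of_coprime (by rw [Subgroup.orderOf_mk, ha, hb]; norm_num),
        Subgroup.orderOf_mk, ha, hb]
    haveI : IsCyclic C := isCyclic_of_orderOf_eq_card _ (ho.trans (by rw [hj]))
    have h40 : Nat.card {g : C // orderOf g = 55} = 40 := by
      classical
      haveI := Fintype.ofFinite C
      rw [Nat.card_eq_fintype_card, Fintype.card_subtype, IsCyclic.card_orderOf_eq_totient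
        (by rw [← Nat.card_eq_fintype_card, hj]),
        show (55 : ℕ) = 5 * 11 from rfl, Nat.totient_mul (by norm_num),
        Nat.totient_prime (by norm_num), Nat.totient_prime (by norm_num)]
    have hmo := numOrder_modEq ha 55
    have e : Nat.card {g : G // orderOf g = 55 ∧ a * g = g * a} = 40 := h40 ▸ Nat.card_congr
      { toFun := fun g => ⟨⟨g.1, mem_centralizer_singleton_iff.mpr g.2.2.symm⟩,
          by rw [Subgroup.orderOf_mk]; exact g.2.1⟩
        invFun := fun g => ⟨g.1.1, by rw [orderOf_coe]; exact g.2,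
          (mem_centralizer_singleton_iff.mp g.1.2).symm⟩
        left_inv := fun _ => rfl
        right_inv := fun _ => rfl }
    rw [e, Nat.ModEq] at hmo
    have hpos : numOrder G 55 ≠ 0 := fun h0 => by rw [h0] at hmo; norm_num at hmo
    rcases mem 55 hpos with e1 | e1 | e1 <;> omega
  haveI : Nontrivial G := Finite.one_lt_card_iff_nontrivial.1 (by rw [hcard]; norm_num)
  exact ⟨⟨fun N hN => by
    haveI := hN
    exact eq_bot_or_eq_top hcard ha hC hS N⟩, hcard⟩

end Cfsg.Agent.NseTwelve
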